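import Mathlib
import Groth.Agent.SmoothApproxLib.Main
import Groth.Agent.ApproxAwayLib.Setups

/-!
A smooth algebra over `A[1/t]` with a point in `Â[1/t]` has a point in `A[1/t]`, for `(A, tA)` Henselian with
bounded `t`-torsion.
-/

set_option autoImplicit false
set_option linter.all false

universe u

namespace Groth.Agent.SmoothApproxLib

open MvPolynomial

attribute [local instance] MvPolynomial.algebraMvPolynomial in
theorem exists_section_close {A A' L L' : Type u} [CommRing A] [CommRing A'] [CommRing L] [CommRing L']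
    {t : A} {g : A →+* A'} {jm : A' →+* L'} {gL : L →+* L'} [Algebra A L]
    (S : ApproxAwayLib.Setup t g (algebraMap A L) jm gL) [IsLocalization.Away t L]
    [HenselianRing A (Ideal.span {t})]
    (hbd : ∃ N : ℕ, ∀ a : A, (∃ e : ℕ, t ^ e * a = 0) → t ^ N * a = 0)
    {B : Type u} [CommRing B] [Algebra L B] [Algebra.Smooth L B]
    (σ : B →+* L') (hσ : σ.comp (algebraMap L B) = gL) {κ : Type} [Finite κ] (x : κ → B) (n : ℕ) :
    ∃ τ : B →ₐ[L] L, ∀ i, ∃ a' : A', gL (τ (x i)) - σ (x i) = jm (g t) ^ n * jm a' := by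
  classical
  obtain ⟨N, hN⟩ := hbd
  let T := Ideal.span {t}
  letI : Algebra A A' := g.toAlgebra
  letI : Algebra A B := ((algebraMap L B).comp (algebraMap A L)).toAlgebra
  haveI : IsScalarTower A L B := IsScalarTower.of_algebraMap_eq fun _ => rfl
  have hσA : ∀ a : A, σ (algebraMap A B a) = jm (algebraMap A A' a) := fun a => by
    show σ (algebraMap L B (algebraMap A L a)) = _
    rw [← RingHom.comp_apply σ, hσ]
    exact S.comm a
  obtain ⟨r, π₀, hπ₀⟩ := Algebra.FiniteType.iff_quotient_mvPolynomial''.1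
    (inferInstance : Algebra.FiniteType L B)
  -- clear denominators in the coordinates of the formal point
  have hden : ∀ j, ∃ (e : ℕ) (z : A'), σ (π₀ (X j)) * jm (algebraMap A A' t) ^ e = jm z := fun j => by
    exact S.surjL' (σ (π₀ (X j)))
  choose e₀ z₀ hz₀ using hden
  let D := ∑ j, e₀ j
  let z : Fin r → A' := fun j => algebraMap A A' t ^ (D - e₀ j) * z₀ j
  let π : MvPolynomial (Fin r) A →ₐ[A] B := aeval fun j => algebraMap A B (t ^ D) * π₀ (X j)
  let πL : MvPolynomial (Fin r) L →ₐ[L] B := aeval fun j => algebraMap A B (t ^ D) * π₀ (X j)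
  let am := algebraMap (MvPolynomial (Fin r) A) (MvPolynomial (Fin r) L)
  let M := (Submonoid.powers t).map (C (σ := Fin r) : A →+* MvPolynomial (Fin r) A)
  have hcomp : ∀ g, πL (am g) = π g := by
    intro g
    show aeval _ (MvPolynomial.map (algebraMap A L) g) = _
    rw [MvPolynomial.aeval_map_algebraMap]
  have hut : ∀ e : ℕ, IsUnit (algebraMap A L (t ^ e)) := fun e => by
    rw [map_pow]; exact (IsLocalization.Away.algebraMap_isUnit t).pow e
  have hπL : Function.Surjective πL := by
    rw [← AlgHom.range_eq_top, eq_top_iff, ← (AlgHom.range_eq_top π₀).2 hπ₀,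
      ← Algebra.map_top π₀, ← MvPolynomial.adjoin_range_X, AlgHom.map_adjoin, Algebra.adjoin_le_iff]
    rintro _ ⟨_, ⟨j, rfl⟩, rfl⟩
    obtain ⟨w, hw⟩ := hut D
    refine ⟨C (↑w⁻¹ : L) * X j, ?_⟩
    show πL (C (↑w⁻¹ : L) * X j) = π₀ (X j)
    rw [map_mul, ← MvPolynomial.algebraMap_eq, AlgHom.commutes, aeval_X, ← mul_assoc,
      IsScalarTower.algebraMap_apply A L B, ← map_mul, ← hw, Units.inv_mul, map_one, one_mul]
  obtain ⟨m, g₀, hg₀⟩ := Submodule.fg_iff_exists_fin_generating_family.1
    (Algebra.FinitePresentation.ker_fG_of_surjective (R := L) πL hπL)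
  have hclear : ∀ l, ∃ (g : MvPolynomial (Fin r) A) (w : MvPolynomial (Fin r) L),
      IsUnit w ∧ g₀ l * w = am g := fun l => by
    obtain ⟨⟨g, s⟩, hs⟩ := IsLocalization.surj M (g₀ l)
    exact ⟨g, _, IsLocalization.map_units _ s, hs⟩
  choose f₁ w₁ hw₁ hf₁ using hclear
  have hg0 : ∀ l, πL (g₀ l) = 0 := fun l => by
    have h0 : g₀ l ∈ Submodule.span (MvPolynomial (Fin r) L) (Set.range g₀) :=
      Submodule.subset_span (Set.mem_range_self l)
    rw [hg₀] at h0
    exact h0
  have hf₁0 : ∀ l, π (f₁ l) = 0 := fun l => by rw [← hcomp, ← hf₁, map_mul, hg0, zero_mul]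
  have hσπ : ∀ g, σ (π g) = jm (aeval z g) := by
    intro g
    have : σ.comp π.toRingHom = jm.comp (aeval z : MvPolynomial (Fin r) A →ₐ[A] A').toRingHom := by
      refine MvPolynomial.ringHom_ext (fun a => ?_) (fun j => ?_)
      · show σ (π (C a)) = jm (aeval z (C a : MvPolynomial (Fin r) A))
        rw [aeval_C, aeval_C]
        exact hσA a
      · show σ (π (X j)) = jm (aeval z (X j : MvPolynomial (Fin r) A))
        rw [aeval_X, aeval_X, map_mul, hσA, map_mul, ← hz₀ j, map_pow, map_pow, map_pow,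
          show D = D - e₀ j + e₀ j from (Nat.sub_add_cancel
            (Finset.single_le_sum (fun i _ => Nat.zero_le _) (Finset.mem_univ j))).symm, pow_add,
          Nat.add_sub_cancel]
        ring
    exact RingHom.congr_fun this g
  have hkill : ∀ l, ∃ e : ℕ, aeval z (C (t ^ e) * f₁ l) = 0 := fun l => by
    have h0 : jm (aeval z (f₁ l)) = 0 := by rw [← hσπ, hf₁0, map_zero]
    obtain ⟨e, he⟩ := S.kerJ _ h0
    exact ⟨e, by rw [map_mul, aeval_C, map_pow]; exact he⟩
  choose e he using hkill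
  let f : Fin m → MvPolynomial (Fin r) A := fun l => C (t ^ e l) * f₁ l
  let w : Fin m → MvPolynomial (Fin r) L := fun l => am (C (t ^ e l)) * w₁ l
  have hw : ∀ l, IsUnit (w l) := fun l => (IsLocalization.map_units (M := M) _
    ⟨_, Submonoid.mem_map_of_mem _ (Submonoid.pow_mem _ (Submonoid.mem_powers t) (e l))⟩).mul (hw₁ l)
  have hf : ∀ l, g₀ l * w l = am (f l) := fun l => by
    simp only [f, w, map_mul, ← hf₁]; ring
  have hker : ∀ g, π g = 0 → ∃ e : ℕ, C (t ^ e) * g ∈ Ideal.span (Set.range f) := by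
    intro g hg
    have hg' : am g ∈ (Ideal.span (Set.range f)).map am := by
      have h1 : am g ∈ Submodule.span (MvPolynomial (Fin r) L) (Set.range g₀) := by
        rw [hg₀]
        show πL (am g) = 0
        rw [hcomp, hg]
      refine (Submodule.span_le (p := (Ideal.span (Set.range f)).map am)).2 ?_ h1
      rintro _ ⟨l, rfl⟩
      refine (Ideal.mul_unit_mem_iff_mem _ (hw l)).1 ?_
      rw [hf]
      exact Ideal.mem_map_of_mem _ (Ideal.subset_span (Set.mem_range_self l))
    obtain ⟨⟨⟨j, hj⟩, s⟩, hs⟩ := (IsLocalization.mem_map_algebraMap_iff M _).1 hg'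
    rw [← map_mul, IsLocalization.eq_iff_exists M] at hs
    obtain ⟨s', hs'⟩ := hs
    obtain ⟨_, ⟨e₁, rfl⟩, hs₁⟩ := s.2
    obtain ⟨_, ⟨e₂, rfl⟩, hs₂⟩ := s'.2
    refine ⟨e₂ + e₁, ?_⟩
    rw [pow_add, map_mul, mul_assoc, mul_comm _ g, hs₁, hs₂, hs']
    exact Ideal.mul_mem_left _ _ hj
  haveI : Algebra.FormallySmooth A L :=
    Algebra.FormallySmooth.of_isLocalization (Submonoid.powers t)
  haveI : Algebra.FormallySmooth A B := Algebra.FormallySmooth.comp A L B
  have hsurj : ∀ c : B, ∃ (g : MvPolynomial (Fin r) A) (e : ℕ),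
      c * algebraMap A B (t ^ e) = π g := fun c => by
    obtain ⟨p, rfl⟩ := hπL c
    obtain ⟨⟨g, s⟩, hs⟩ := IsLocalization.surj M p
    obtain ⟨_, ⟨e₁, rfl⟩, hs₁⟩ := s.2
    refine ⟨g, e₁, ?_⟩
    rw [← hcomp, ← hs, map_mul, ← hs₁, hcomp]
    congr 1
    exact (π.commutes _).symm
  choose p ep hp using fun i => hsurj (x i)
  obtain ⟨k, H, hH⟩ := exists_split t π
    (by rw [IsScalarTower.algebraMap_apply A L B]
        exact (IsLocalization.Away.algebraMap_isUnit t).map _)
    hsurj
    f (fun l => by simp [f, hf₁0]) hker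
  obtain ⟨E, hE⟩ : ∃ E, ∀ i, ep i ≤ E := by
    haveI := Fintype.ofFinite κ
    exact ⟨∑ i, ep i, fun i => Finset.single_le_sum (fun i _ => Nat.zero_le _) (Finset.mem_univ i)⟩
  let c := max (k + 1) N + n + E
  choose a ha using fun j => S.approx (c + k + 1) (z j)
  have hfa : ∀ l, eval a (f l) ∈ T ^ (c + k + 1) := fun l => by
    rw [Ideal.span_singleton_pow]
    refine S.refl _ _ ?_
    have h1 := (taylor_mem (f l) (fun j => g (a j)) z (Ideal.span {g t ^ (c + k + 1)}) ha).2
    rw [he l, zero_sub, neg_mem_iff] at h1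
    have : (aeval (fun j => g (a j)) : MvPolynomial (Fin r) A →ₐ[A] A') =
        (Algebra.ofId A A').comp (aeval a) := MvPolynomial.algHom_ext fun j => by simp; rfl
    rw [this, AlgHom.comp_apply, MvPolynomial.aeval_eq_eval] at h1
    exact h1
  obtain ⟨b, hb, hba⟩ := exists_zero t hN f k H hH c
    (le_add_right (le_add_right (le_max_left _ _)))
    (le_add_right (le_add_right (le_max_right _ _))) a hfa
  let ev : MvPolynomial (Fin r) L →ₐ[L] L := aeval fun j => algebraMap A L (b j)
  have hev : ∀ l, ev (g₀ l) = 0 := fun l => by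
    have h1 : ev (g₀ l) * ev (w l) = 0 := by
      rw [← map_mul, hf]
      show aeval _ (MvPolynomial.map (algebraMap A L) (f l)) = 0
      rw [MvPolynomial.aeval_map_algebraMap]
      have : (aeval fun j => algebraMap A L (b j) : MvPolynomial (Fin r) A →ₐ[A] L) =
          (Algebra.ofId A L).comp (aeval b) := MvPolynomial.algHom_ext fun j => by simp
      rw [this, AlgHom.comp_apply, MvPolynomial.aeval_eq_eval, hb, map_zero]
    exact ((hw l).map ev).mul_left_eq_zero.1 h1
  have hle : RingHom.ker (πL : MvPolynomial (Fin r) L →+* B) ≤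
      RingHom.ker (ev : MvPolynomial (Fin r) L →+* L) := by
    intro y hy
    have hy' : y ∈ Submodule.span (MvPolynomial (Fin r) L) (Set.range g₀) := by rw [hg₀]; exact hy
    refine (Submodule.span_le (p := RingHom.ker (ev : MvPolynomial (Fin r) L →+* L))).2 ?_ hy'
    rintro _ ⟨l, rfl⟩
    exact hev l
  let τ := AlgHom.liftOfSurjective πL hπL ev hle
  refine ⟨τ, fun i => ?_⟩
  -- closeness
  have hτπ : ∀ q, τ (π q) = algebraMap A L (eval b q) := fun q => by
    rw [← hcomp]
    refine (AlgHom.liftOfSurjective_apply πL hπL ev hle _).trans ?_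
    show aeval _ (MvPolynomial.map (algebraMap A L) q) = _
    rw [MvPolynomial.aeval_map_algebraMap]
    have : (aeval fun j => algebraMap A L (b j) : MvPolynomial (Fin r) A →ₐ[A] L) =
        (Algebra.ofId A L).comp (aeval b) := MvPolynomial.algHom_ext fun j => by simp
    rw [this, AlgHom.comp_apply, MvPolynomial.aeval_eq_eval]
    rfl
  have hclose : ∀ j, g (b j) - z j ∈ Ideal.span {g t ^ c} := fun j => by
    have h1 := Ideal.mem_map_of_mem g (hba j)
    rw [Ideal.span_singleton_pow, Ideal.map_span, Set.image_singleton, map_pow, map_sub] at h1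
    have h2 : z j - g (a j) ∈ Ideal.span {g t ^ c} :=
      Ideal.span_singleton_le_span_singleton.2 (pow_dvd_pow _ (by omega)) (ha j)
    have h3 := sub_mem h1 h2
    convert h3 using 1
    ring
  have h4 := (taylor_mem (p i) z (fun j => g (b j)) (Ideal.span {g t ^ c}) hclose).2
  have : (aeval (fun j => g (b j)) : MvPolynomial (Fin r) A →ₐ[A] A') =
      (Algebra.ofId A A').comp (aeval b) := MvPolynomial.algHom_ext fun j => by simp; rfl
  rw [this, AlgHom.comp_apply, MvPolynomial.aeval_eq_eval] at h4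
  obtain ⟨w', hw'⟩ := Ideal.mem_span_singleton'.1 h4
  refine ⟨g t ^ (c - n - ep i) * w', ?_⟩
  have hu : IsUnit (jm (g t)) := by rw [← S.comm]; exact S.unit.map gL
  refine (hu.pow (ep i)).mul_right_cancel ?_
  have h5 : gL (τ (x i)) * jm (g t) ^ ep i = jm (g (eval b (p i))) := by
    have hA : τ (algebraMap A B (t ^ ep i)) = algebraMap A L (t ^ ep i) := by
      rw [IsScalarTower.algebraMap_apply A L B, τ.commutes]; rfl
    rw [← map_pow, ← map_pow, ← S.comm, ← map_mul, ← hA, ← map_mul, hp, hτπ, S.comm]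
  have h6 : σ (x i) * jm (g t) ^ ep i = jm (aeval z (p i)) := by
    rw [← hσπ, ← hp, map_mul, hσA]
    congr 1
    rw [map_pow, map_pow]; rfl
  rw [sub_mul, h5, h6, ← map_sub]
  have h7 : c - n - ep i + n + ep i = c := by have := hE i; omega
  simp only [← map_pow jm, ← map_mul jm]
  congr 1
  calc g (eval b (p i)) - aeval z (p i) = w' * g t ^ c := hw'.symm
    _ = _ := by rw [← h7, pow_add, pow_add, h7]; ring

theorem exists_section_setup {A A' L L' : Type u} [CommRing A] [CommRing A'] [CommRing L] [CommRing L']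
    {t : A} {g : A →+* A'} {jm : A' →+* L'} {gL : L →+* L'} [Algebra A L]
    (S : ApproxAwayLib.Setup t g (algebraMap A L) jm gL) [IsLocalization.Away t L]
    [HenselianRing A (Ideal.span {t})]
    (hbd : ∃ N : ℕ, ∀ a : A, (∃ e : ℕ, t ^ e * a = 0) → t ^ N * a = 0)
    {B : Type u} [CommRing B] [Algebra L B] [Algebra.Smooth L B]
    (σ : B →+* L') (hσ : σ.comp (algebraMap L B) = gL) :
    Nonempty (B →ₐ[L] L) :=
  ⟨(exists_section_close S hbd σ hσ (fun i : PEmpty => i.elim) 0).choose⟩

theorem exists_section {A : Type u} [CommRing A] (t : A) [HenselianRing A (Ideal.span {t})]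
    (hbd : ∃ N : ℕ, ∀ a : A, (∃ e : ℕ, t ^ e * a = 0) → t ^ N * a = 0)
    {B : Type u} [CommRing B] [Algebra (Localization.Away t) B]
    [Algebra.Smooth (Localization.Away t) B]
    (σ : B →+* Localization.Away (algebraMap A (AdicCompletion (Ideal.span {t}) A) t))
    (hσ : σ.comp (algebraMap (Localization.Away t) B) =
      Localization.awayMap (algebraMap A (AdicCompletion (Ideal.span {t}) A)) t) :
    Nonempty (B →ₐ[Localization.Away t] Localization.Away t) :=
  exists_section_setup (ApproxAwayLib.setup_adicCompletion A t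
    (HenselianRing.jac (I := Ideal.span {t}) (Ideal.mem_span_singleton_self t))) hbd σ hσ

end Groth.Agent.SmoothApproxLib
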