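import Mathlib
import Groth.Agent.SmoothApproxLib.Section

/-!
Points of étale algebras over `L = A[1/t]` and over `L' = A'[1/t]` agree.
-/

set_option autoImplicit false
set_option linter.all false

universe u

namespace Groth.Agent.SmoothApproxLib

open TensorProduct

variable {A A' L L' : Type u} [CommRing A] [CommRing A'] [CommRing L] [CommRing L']
    {t : A} {g : A →+* A'} {jm : A' →+* L'} {gL : L →+* L'} [Algebra A L]

/-- Every point over `L'` of an étale `L`-algebra comes from exactly one point over `L`. -/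
theorem existsUnique_point (S : ApproxAwayLib.Setup t g (algebraMap A L) jm gL) [IsLocalization.Away t L]
    [HenselianRing A (Ideal.span {t})]
    (hbd : ∃ N : ℕ, ∀ a : A, (∃ e : ℕ, t ^ e * a = 0) → t ^ N * a = 0)
    {B : Type u} [CommRing B] [Algebra L B] [Algebra.Etale L B]
    (σ : B →+* L') (hσ : σ.comp (algebraMap L B) = gL) :
    ∃! τ : B →ₐ[L] L, gL.comp τ.toRingHom = σ := by
  classical
  letI : Algebra L L' := gL.toAlgebra
  let ε := Algebra.FormallyUnramified.elem L B
  have h1 : Algebra.TensorProduct.lmul' L (S := B) ε = 1 := Algebra.FormallyUnramified.lmul_elem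
  have h2 : ∀ x : B, (1 ⊗ₜ x - x ⊗ₜ 1) * ε = 0 := fun x =>
    Algebra.FormallyUnramified.one_tmul_sub_tmul_one_mul_elem x
  -- two points whose value on `ε` is a unit are equal
  have key : ∀ {R : Type u} [CommRing R] [Algebra L R] (p q : B →ₐ[L] R),
      IsUnit (Algebra.TensorProduct.lift p q (fun _ _ => Commute.all _ _) ε) → p = q := by
    intro R _ _ p q hu
    refine AlgHom.ext fun x => ?_
    have h3 := congrArg (Algebra.TensorProduct.lift p q (fun _ _ => Commute.all _ _)) (h2 x)
    rw [map_mul, map_sub, map_zero, Algebra.TensorProduct.lift_tmul, Algebra.TensorProduct.lift_tmul,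
      map_one, map_one, one_mul, mul_one] at h3
    exact (sub_eq_zero.1 (hu.mul_left_eq_zero.1 h3)).symm
  have hone : ∀ {R : Type u} [CommRing R] [Algebra L R] (p : B →ₐ[L] R),
      Algebra.TensorProduct.lift p p (fun _ _ => Commute.all _ _) ε = 1 := by
    intro R _ _ p
    have : Algebra.TensorProduct.lift p p (fun _ _ => Commute.all _ _) =
        p.comp (Algebra.TensorProduct.lmul' L (S := B)) := by
      refine Algebra.TensorProduct.ext' fun a b => ?_
      simp
    rw [this, AlgHom.comp_apply, h1, map_one]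
  let σ' : B →ₐ[L] L' := { σ with commutes' := fun l => RingHom.congr_fun hσ l }
  obtain ⟨Tε, hTε⟩ := TensorProduct.exists_finset ε
  have hval : ∀ {R : Type u} [CommRing R] [Algebra L R] (p q : B →ₐ[L] R),
      Algebra.TensorProduct.lift p q (fun _ _ => Commute.all _ _) ε = ∑ i ∈ Tε, p i.1 * q i.2 := by
    intro R _ _ p q
    conv_lhs => rw [hTε]
    simp only [map_sum, Algebra.TensorProduct.lift_tmul]
  -- bound on the values of `σ`
  choose K z hz using fun i : B × B => S.surjL' (σ i.2)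
  let D := ∑ i ∈ Tε, K i
  have hbnd : ∀ i ∈ Tε, ∃ z', σ i.2 * jm (g t) ^ D = jm z' := fun i hi => by
    refine ⟨z i * g t ^ (D - K i), ?_⟩
    rw [map_mul, ← hz i, map_pow, mul_assoc, ← pow_add,
      Nat.add_sub_cancel' (Finset.single_le_sum (fun i _ => Nat.zero_le _) hi)]
  obtain ⟨m, e⟩ : ∃ m, Nonempty (↥Tε ≃ Fin m) := ⟨_, ⟨Tε.equivFin⟩⟩
  obtain ⟨e⟩ := e
  obtain ⟨τ, hτ⟩ := exists_section_close S hbd σ hσ (fun i : Fin m => (e.symm i).1.1) (D + 1)
  let τ' : B →ₐ[L] L' := (Algebra.ofId L L').comp τ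
  have hclose : ∀ i ∈ Tε, ∃ w, τ' i.1 * σ' i.2 = σ' i.1 * σ' i.2 + jm (g t) * jm w := by
    intro i hi
    obtain ⟨a', ha'⟩ := hτ (e ⟨i, hi⟩)
    rw [Equiv.symm_apply_apply] at ha'
    obtain ⟨z', hz'⟩ := hbnd i hi
    refine ⟨a' * z', ?_⟩
    show gL (τ i.1) * σ i.2 = σ i.1 * σ i.2 + _
    rw [map_mul, ← hz']
    rw [pow_succ] at ha'
    linear_combination (σ i.2) * ha'
  choose w hw using hclose
  have heq : τ' = σ' := by
    refine key τ' σ' ?_
    have : Algebra.TensorProduct.lift τ' σ' (fun _ _ => Commute.all _ _) ε =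
        jm (1 + g t * ∑ i : ↥Tε, w i.1 i.2) := by
      rw [map_add, map_mul, map_sum, map_one, ← hone σ', hval, hval, Finset.mul_sum,
        ← Finset.sum_coe_sort Tε, ← Finset.sum_coe_sort Tε, ← Finset.sum_add_distrib]
      exact Finset.sum_congr rfl fun i _ => hw i.1 i.2
    rw [this]
    refine IsUnit.map jm ?_
    have h5 := S.jac'
    rw [Ideal.mem_jacobson_bot] at h5
    rw [add_comm]
    exact h5 _
  refine ⟨τ, RingHom.ext fun x => AlgHom.congr_fun heq x, fun τ₂ hτ₂ => key τ₂ τ ?_⟩
  set e0 := Algebra.TensorProduct.lift τ₂ τ (fun _ _ => Commute.all _ _) ε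
  have hg : gL e0 = 1 := by
    have h6 : (Algebra.ofId L L').comp τ₂ = σ' := AlgHom.ext fun x => RingHom.congr_fun hτ₂ x
    have h7 : (Algebra.ofId L L').comp (Algebra.TensorProduct.lift τ₂ τ fun _ _ => Commute.all _ _) =
        Algebra.TensorProduct.lift ((Algebra.ofId L L').comp τ₂) τ' (fun _ _ => Commute.all _ _) := by
      refine Algebra.TensorProduct.ext' fun a b => ?_
      simp [τ']
    have h8 := AlgHom.congr_fun h7 ε
    rw [h6, heq, hone σ'] at h8
    exact h8
  obtain ⟨Dm, hD⟩ := S.exists_reflect 1 (Matrix.of fun _ _ : Fin 1 => e0 - 1)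
    ⟨0, by ext i j; simp [hg]⟩
  have h9 := congrFun (congrFun hD 0) 0
  simp only [Matrix.of_apply, Matrix.smul_apply, Matrix.map_apply, pow_one, smul_eq_mul] at h9
  rw [sub_eq_iff_eq_add] at h9
  rw [h9, ← map_mul, ← map_one (algebraMap A L), ← map_add]
  refine IsUnit.map _ ?_
  exact (Ideal.mem_jacobson_bot.1 S.jac) _

end Groth.Agent.SmoothApproxLib
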