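import Groth.Agent.FEtLib.HomBase

/-!
Base change of finite étale covers of affine schemes is fully faithful when points of étale algebras correspond.
-/

set_option autoImplicit false
set_option linter.all false
set_option backward.isDefEq.respectTransparency.types false

universe u

open CategoryTheory CategoryTheory.Limits AlgebraicGeometry MorphismProperty

namespace Groth.Agent.SmoothApproxLib

open FEtLib

noncomputable section

variable {X X' : Scheme.{u}} (r : X' ⟶ X)

/-- Base change of the morphism given by a section. -/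
theorem map_toHom {U V W : FEt.Cat X} (e : W ⨯ U ⟶ V) (τ : one X ⟶ W) :
    (FEt.restrict r).map (toHom e τ) = toHom (bcEval r e)
      (sectionEquiv r W ⟨r ≫ τ.left, by
        rw [Category.assoc]; exact (congrArg (r ≫ ·) (Over.w τ.hom)).trans (Category.comp_id r)⟩) := by
  refine FEtLib.hom_ext fun K _ _ ξ a => (bcEquiv r).injective ?_
  rw [bcEquiv_pmap, pmap_toHom, pmap_toHom, bcEquiv_curryFib]
  congr 1
  refine fib_ext ?_
  let al : Spec (CommRingCat.of K) ⟶ ((FEt.restrict r).obj U).left := a.left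
  show (bcEquiv r a).left ≫ U.hom ≫ τ.left = (al ≫ ((FEt.restrict r).obj U).hom ≫
    pullback.lift (r ≫ τ.left) (𝟙 X') _) ≫ pullback.fst W.hom r
  have h2 : (bcEquiv r a).left ≫ U.hom = ξ ≫ r := fib_w (bcEquiv r a)
  have hξ : al ≫ ((FEt.restrict r).obj U).hom = ξ := fib_w a
  rw [← Category.assoc, h2]
  simp only [Category.assoc, pullback.lift_fst]
  rw [← hξ]
  simp only [Category.assoc]

/-- Base change is faithful if sections of covers are detected after base change. -/
theorem faithful_of_sections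
    (h : ∀ (W : FEt.Cat X) (t t' : X ⟶ W.left), t ≫ W.hom = 𝟙 X → t' ≫ W.hom = 𝟙 X →
      r ≫ t = r ≫ t' → t = t') : (FEt.restrict r).Faithful := ⟨fun {U V} {f g} hfg => by
  obtain ⟨W, e, he⟩ := exists_internalHom U V
  obtain ⟨τ, rfl⟩ := toHom_surjective he f
  obtain ⟨τ', rfl⟩ := toHom_surjective he g
  rw [map_toHom, map_toHom] at hfg
  have h1 := congrArg Subtype.val ((sectionEquiv r W).injective (toHom_injective (he.restrict r) hfg))
  have h2 : τ.left = τ'.left := h W τ.left τ'.left (Over.w τ.hom) (Over.w τ'.hom) h1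
  congr 1
  ext
  exact h2⟩

end

/-- Full faithfulness over affine bases. -/
theorem full_faithful_of_points {L L' : Type u} [CommRing L] [CommRing L'] (gL : L →+* L')
    (h : ∀ (B : Type u) [CommRing B] [Algebra L B] [Algebra.Etale L B] (σ : B →+* L'),
      σ.comp (algebraMap L B) = gL → ∃! τ : B →ₐ[L] L, gL.comp τ.toRingHom = σ) :
    (FEt.restrict (Spec.map (CommRingCat.ofHom gL))).Full ∧
      (FEt.restrict (Spec.map (CommRingCat.ofHom gL))).Faithful := by
  have hW : ∀ (W : FEt.Cat (Spec (CommRingCat.of L))), ∃ (e : W.left ≅ Spec Γ(W.left, ⊤))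
      (φ : CommRingCat.of L ⟶ Γ(W.left, ⊤)), Spec.map φ = e.inv ≫ W.hom ∧ φ.hom.Etale := by
    intro W
    haveI : IsFinite W.hom := W.prop.1
    haveI : Etale W.hom := W.prop.2
    let w : W.left ⟶ Spec (CommRingCat.of L) := W.hom
    haveI : IsAffineHom w := inferInstanceAs (IsAffineHom W.hom)
    haveI : IsAffine W.left := isAffine_of_isAffineHom w
    refine ⟨W.left.isoSpec, Spec.preimage (W.left.isoSpec.inv ≫ W.hom), Spec.map_preimage _, ?_⟩
    refine (HasRingHomProperty.Spec_iff (P := @Etale)).1 ?_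
    rw [Spec.map_preimage]
    infer_instance
  constructor
  · refine FEtLib.full_of_sections _ fun W s hs => ?_
    obtain ⟨e, φ, hφ, het⟩ := hW W
    letI : Algebra L Γ(W.left, ⊤) := φ.hom.toAlgebra
    haveI : Algebra.Etale L Γ(W.left, ⊤) := het
    have hψ : φ ≫ Spec.preimage (s ≫ e.hom) = CommRingCat.ofHom gL := by
      apply Spec.map_injective
      rw [Spec.map_comp, Spec.map_preimage, hφ, Category.assoc, Iso.hom_inv_id_assoc, hs]
    obtain ⟨τ, hτ, -⟩ := h _ (Spec.preimage (s ≫ e.hom)).hom (CommRingCat.hom_ext_iff.1 hψ)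
    refine ⟨Spec.map (CommRingCat.ofHom τ.toRingHom) ≫ e.inv, ?_, ?_⟩
    · rw [Category.assoc, ← hφ, ← Spec.map_comp]
      have : φ ≫ CommRingCat.ofHom τ.toRingHom = 𝟙 _ := CommRingCat.hom_ext τ.comp_algebraMap
      rw [this, Spec.map_id]
    · rw [← Category.assoc, ← Spec.map_comp, ← CommRingCat.ofHom_comp, hτ]
      rw [show CommRingCat.ofHom (Spec.preimage (s ≫ e.hom)).hom = Spec.preimage (s ≫ e.hom) from rfl,
        Spec.map_preimage, Category.assoc, e.hom_inv_id, Category.comp_id]
  · refine faithful_of_sections _ fun W t t' ht ht' heq => ?_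
    obtain ⟨e, φ, hφ, het⟩ := hW W
    letI : Algebra L Γ(W.left, ⊤) := φ.hom.toAlgebra
    haveI : Algebra.Etale L Γ(W.left, ⊤) := het
    have hψ : ∀ u : Spec (CommRingCat.of L) ⟶ W.left, u ≫ W.hom = 𝟙 _ →
        φ ≫ Spec.preimage (u ≫ e.hom) = 𝟙 _ := fun u hu => by
      apply Spec.map_injective
      rw [Spec.map_comp, Spec.map_preimage, hφ, Category.assoc, Iso.hom_inv_id_assoc, hu, Spec.map_id]
    let a : Γ(W.left, ⊤) →ₐ[L] L := { (Spec.preimage (t ≫ e.hom)).hom with
      commutes' := fun l => RingHom.congr_fun (CommRingCat.hom_ext_iff.1 (hψ t ht)) l }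
    let a' : Γ(W.left, ⊤) →ₐ[L] L := { (Spec.preimage (t' ≫ e.hom)).hom with
      commutes' := fun l => RingHom.congr_fun (CommRingCat.hom_ext_iff.1 (hψ t' ht')) l }
    have h1 : Spec.preimage (t ≫ e.hom) ≫ CommRingCat.ofHom gL =
        Spec.preimage (t' ≫ e.hom) ≫ CommRingCat.ofHom gL := by
      apply Spec.map_injective
      rw [Spec.map_comp, Spec.map_comp, Spec.map_preimage, Spec.map_preimage, ← Category.assoc,
        ← Category.assoc, heq]
    have h2 : gL.comp a.toRingHom = gL.comp a'.toRingHom := CommRingCat.hom_ext_iff.1 h1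
    have h3 : a = a' := (h _ (gL.comp a.toRingHom)
      (RingHom.ext fun l => congrArg gL (a.commutes l))).unique rfl h2.symm
    have h4 : Spec.preimage (t ≫ e.hom) = Spec.preimage (t' ≫ e.hom) :=
      CommRingCat.hom_ext (congrArg AlgHom.toRingHom h3)
    have h5 := congrArg Spec.map h4
    rw [Spec.map_preimage, Spec.map_preimage] at h5
    exact (cancel_mono e.hom).1 h5

end Groth.Agent.SmoothApproxLib
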